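import Mathlib.GroupTheory.SpecificGroups.KleinFour
import Mathlib.GroupTheory.Sylow
import Cfsg.Agent.S0204

/-!
Groups whose abelian subgroups of equal order are conjugate: the 2-elements and the elements of order three of a
simple normal subgroup.
-/

set_option autoImplicit false
set_option linter.unusedSectionVars false
set_option linter.style.haveILetI false

namespace CfsgLib.AbConj

universe u

variable (G : Type u) [Group G]

/-- Abelian subgroups of equal prime power order are conjugate. -/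
def Hyp : Prop :=
  ∀ A B : Subgroup G, IsMulCommutative ↥A → IsMulCommutative ↥B → IsPrimePow (Nat.card ↥A) →
    Nat.card ↥A = Nat.card ↥B → ∃ g : G, B = A.map (MulAut.conj g).toMonoidHom

variable {G} [Finite G] {M : Subgroup G} [hMn : M.Normal]

/-- Conjugation by an element of `G` on `M`. -/
noncomputable def act (g : G) : MulAut M := MulAut.conjNormal g

theorem act_coe (g : G) (x : M) : ((act g x : M) : G) = g * x * g⁻¹ := MulAut.conjNormal_apply g x

/-- Subgroups of `M` of equal order, abelian, are moved to one another by `G`. -/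
theorem exists_act (hB : Hyp G) {A B : Subgroup M} (hA : ∀ a ∈ A, ∀ b ∈ A, a * b = b * a)
    (hBc : ∀ a ∈ B, ∀ b ∈ B, a * b = b * a) (hp : IsPrimePow (Nat.card A)) (h : Nat.card A = Nat.card B) :
    ∃ g : G, B = A.map (act (M := M) g).toMonoidHom := by
  have hc : ∀ C : Subgroup M, (∀ a ∈ C, ∀ b ∈ C, a * b = b * a) → IsMulCommutative ↥(C.map M.subtype) := by
    refine fun C hC => ⟨⟨?_⟩⟩
    rintro ⟨_, a, ha, rfl⟩ ⟨_, b, hb, rfl⟩
    exact Subtype.ext (show (a : G) * b = b * a from congrArg Subtype.val (hC a ha b hb))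
  obtain ⟨g, hg⟩ := hB (A.map M.subtype) (B.map M.subtype) (hc A hA) (hc B hBc)
    (by rwa [Subgroup.card_map_of_injective M.subtype_injective])
    (by rw [Subgroup.card_map_of_injective M.subtype_injective,
      Subgroup.card_map_of_injective M.subtype_injective, h])
  refine ⟨g, Subgroup.map_injective M.subtype_injective ?_⟩
  rw [hg, Subgroup.map_map, Subgroup.map_map]
  congr 1

/-- A cyclic subgroup has commuting elements. -/
theorem zpowers_comm {H : Type u} [Group H] (x : H) :
    ∀ a ∈ Subgroup.zpowers x, ∀ b ∈ Subgroup.zpowers x, a * b = b * a := by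
  rintro _ ⟨i, rfl⟩ _ ⟨j, rfl⟩
  exact ((Commute.refl x).zpow_zpow i j).eq

/-- A simple normal subgroup has no element of order four. -/
theorem no_four (hB : Hyp G) (hs : IsSimpleGroup M) (hna : ¬ IsMulCommutative M) (x : M) : orderOf x ≠ 4 := by
  intro hx
  haveI := hs
  have hnc : ¬ IsCyclic M := fun h => hna (by
    haveI := h
    obtain ⟨g, hg⟩ := IsCyclic.exists_generator (α := M)
    exact ⟨⟨fun a b => by
      obtain ⟨i, rfl⟩ := hg a
      obtain ⟨j, rfl⟩ := hg b
      exact ((Commute.refl g).zpow_zpow i j).eq⟩⟩)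
  obtain ⟨E, hE⟩ := Cfsg.Agent.S0204.result (G := M) hnc
  obtain ⟨g, hg⟩ := exists_act hB (zpowers_comm x)
    (fun a ha b hb => congrArg Subtype.val
      (mul_comm_of_exponent_two hE.exponent_two (⟨a, ha⟩ : E) ⟨b, hb⟩))
    (by rw [Nat.card_zpowers, hx]; exact ⟨2, 2, Nat.prime_two.prime, by norm_num, by norm_num⟩)
    (by rw [Nat.card_zpowers, hx, hE.card_four])
  have hm : act g x ∈ E := hg ▸ ⟨x, Subgroup.mem_zpowers x, rfl⟩
  have h2 : (⟨act g x, hm⟩ : E) ^ 2 = 1 := by
    rw [← hE.exponent_two]; exact Monoid.pow_exponent_eq_one _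
  have h3 : orderOf (act (M := M) g x) ∣ 2 := orderOf_dvd_of_pow_eq_one (congrArg Subtype.val h2)
  rw [show orderOf (act (M := M) g x) = orderOf x from MulEquiv.orderOf_eq _ x, hx] at h3
  norm_num at h3

/-- The 2-subgroups of a simple normal subgroup have exponent two. -/
theorem sq_eq_one (hB : Hyp G) (hs : IsSimpleGroup M) (hna : ¬ IsMulCommutative M) {P : Subgroup M}
    (hP : IsPGroup 2 P) {x : M} (hx : x ∈ P) : x ^ 2 = 1 := by
  obtain ⟨k, hk⟩ := hP ⟨x, hx⟩
  haveI : Fact (Nat.Prime 2) := ⟨Nat.prime_two⟩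
  obtain ⟨j, -, hj⟩ := (Nat.dvd_prime_pow Nat.prime_two).mp
    (orderOf_dvd_of_pow_eq_one (congrArg Subtype.val hk : x ^ 2 ^ k = 1))
  rcases (show j ≤ 1 ∨ 2 ≤ j by omega) with h | h
  · exact orderOf_dvd_iff_pow_eq_one.mp (hj ▸ by
      calc 2 ^ j ∣ 2 ^ 1 := pow_dvd_pow 2 h
        _ = 2 := rfl)
  · exfalso
    obtain ⟨i, rfl⟩ : ∃ i, j = 2 + i := ⟨j - 2, by omega⟩
    refine no_four hB hs hna (x ^ 2 ^ i) ?_
    rw [orderOf_pow' _ (by positivity), hj, Nat.gcd_eq_right (pow_dvd_pow 2 (by omega)),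
      Nat.pow_div (by omega) (by norm_num)]
    rw [show 2 + i - i = 2 by omega]

/-- The Sylow 2-subgroups of a simple normal subgroup are abelian. -/
theorem sylow_comm (hB : Hyp G) (hs : IsSimpleGroup M) (hna : ¬ IsMulCommutative M) (P : Sylow 2 M) :
    IsMulCommutative ↥(P : Subgroup M) := by
  refine ⟨⟨fun a b => Subtype.ext ?_⟩⟩
  have h : ∀ z : (P : Subgroup M), (z : M) * z = 1 := fun z => by
    rw [← pow_two]; exact sq_eq_one hB hs hna P.isPGroup' z.2
  have hi : ∀ z : (P : Subgroup M), (z : M)⁻¹ = z := fun z => inv_eq_of_mul_eq_one_right (h z)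
  calc (a : M) * b = ((a : M) * b)⁻¹ := (inv_eq_of_mul_eq_one_right (h (a * b))).symm
    _ = b * a := by rw [mul_inv_rev, hi, hi]

/-- An element of order three commutes with an involution as soon as one does. -/
theorem three_commutes (hB : Hyp G) {u t : M} (hu : orderOf u = 3) (ht : orderOf t = 2) (hc : Commute u t)
    {x : M} (hx : orderOf x = 3) : ∃ r : M, orderOf r = 2 ∧ Commute x r := by
  obtain ⟨g, hg⟩ := exists_act hB (zpowers_comm u) (zpowers_comm x)
    (by rw [Nat.card_zpowers, hu]; exact Nat.prime_three.isPrimePow)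
    (by rw [Nat.card_zpowers, Nat.card_zpowers, hu, hx])
  obtain ⟨y, hy, hyx⟩ : x ∈ (Subgroup.zpowers u).map (act (M := M) g).toMonoidHom := hg ▸ Subgroup.mem_zpowers x
  obtain ⟨i, rfl⟩ := hy
  refine ⟨act g t, by rw [MulEquiv.orderOf_eq, ht], ?_⟩
  rw [← hyx]
  exact (hc.zpow_left i).map (act (M := M) g).toMonoidHom

end CfsgLib.AbConj
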