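import Cfsg.Agent.Lib.PSL2.Aut
import Mathlib.FieldTheory.Galois.Basic
import Mathlib.FieldTheory.Finite.GaloisField
import Mathlib.Algebra.Algebra.ZMod

/-!
Transitivity of the automorphisms of `PSL₂(2^n)` on the four-groups of unitriangular elements forces `n ∈ {2,3,5}`.
-/

set_option autoImplicit false
set_option linter.unusedSectionVars false
set_option linter.style.haveILetI false

namespace CfsgLib.AbConj

open Matrix CfsgLib.PSL2

variable {F : Type} [Field F] [Fintype F] [CharP F 2]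

local notation "PSL" => Matrix.ProjectiveSpecialLinearGroup (Fin 2) F

/-- The four-group of the unitriangular elements spanned by `a` and `b`. -/
def four (a b : F) : Subgroup PSL where
  carrier := uu '' {0, a, b, a + b}
  one_mem' := ⟨0, by simp, map_one _⟩
  mul_mem' := by
    rintro _ _ ⟨s, hs, rfl⟩ ⟨r, hr, rfl⟩
    refine ⟨s + r, ?_, map_mul _ _ _⟩
    have hz : ∀ y : F, y + y = 0 := CharTwo.add_self_eq_zero
    simp only [Set.mem_insert_iff, Set.mem_singleton_iff] at hs hr ⊢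
    rcases hs with rfl | rfl | rfl | rfl <;> rcases hr with rfl | rfl | rfl | rfl <;>
      simp [add_left_comm, add_comm, hz]
  inv_mem' := by
    rintro _ ⟨s, hs, rfl⟩
    refine ⟨s, hs, ?_⟩
    rw [eq_comm, inv_eq_iff_mul_eq_one]
    show uHom (Multiplicative.ofAdd s) * uHom (Multiplicative.ofAdd s) = 1
    rw [← map_mul, ← ofAdd_add, CharTwo.add_self_eq_zero, ofAdd_zero, map_one]

theorem mem_four {a b : F} {x : PSL} : x ∈ four a b ↔ ∃ s : F, (s = 0 ∨ s = a ∨ s = b ∨ s = a + b) ∧ uu s = x := by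
  show x ∈ uu '' ({0, a, b, a + b} : Set F) ↔ _
  simp

theorem four_comm (a b : F) : ∀ x ∈ four a b, ∀ y ∈ four a b, x * y = y * x := by
  rintro x ⟨s, -, rfl⟩ y ⟨r, -, rfl⟩
  show uHom (Multiplicative.ofAdd s) * uHom (Multiplicative.ofAdd r) = _
  rw [← map_mul, mul_comm, map_mul]

theorem card_four {a b : F} (ha : a ≠ 0) (hb : b ≠ 0) (hab : a ≠ b) : Nat.card (four a b) = 4 := by
  classical
  have h : Nat.card (four a b) = (uu '' ({0, a, b, a + b} : Set F)).ncard := Nat.card_coe_set_eq _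
  rw [h, Set.ncard_image_of_injective _ uu_injective,
    show ({0, a, b, a + b} : Set F) = (({0, a, b, a + b} : Finset F) : Set F) by simp, Set.ncard_coe_finset]
  have hsum : a + b ≠ 0 := fun e => hab (by
    rw [add_eq_zero_iff_eq_neg, CharTwo.neg_eq] at e; exact e)
  rw [Finset.card_insert_of_notMem, Finset.card_insert_of_notMem, Finset.card_insert_of_notMem, Finset.card_singleton]
  · simp [ha]
  · simp [hab, hb]
  · simp [Ne.symm ha, Ne.symm hb, Ne.symm hsum]

/-- A member of `GL₂` moving one unitriangular element to another acts on all of them by a scalar. -/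
theorem scale_of_moves (g : GL (Fin 2) F) {s r : F} (hs : s ≠ 0) (h : diagAut g (uu s) = uu r) :
    ∃ c : F, ∀ t, diagAut g (uu t) = uu (c * t) := by
  have h2 : ∀ A B : Matrix.SpecialLinearGroup (Fin 2) F, mk A = mk B → B.1 = A.1 := fun A B e => by
    rcases mk_eq_mk.mp e with e | e
    · exact e
    · rw [e]; ext i j; simp [CharTwo.neg_eq]
  rw [uu_eq, diagAut_apply, uu_eq] at h
  have e : (uSL r).1 * g.1 = g.1 * (uSL s).1 := by
    rw [h2 _ _ h, coe_conjSL]
    simp [Matrix.mul_assoc]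
  have e10 : g.1 1 0 = 0 := by
    have := congrFun (congrFun e 1) 1
    simp [coe_uSL, Matrix.mul_apply, Fin.sum_univ_two] at this
    rcases this with h0 | h0
    · exact h0
    · exact absurd h0 hs
  have hd : g.1 1 1 ≠ 0 := fun h0 => by
    have hu := (Matrix.isUnit_iff_isUnit_det _).mp g.isUnit
    rw [Matrix.det_fin_two, e10, h0, mul_zero, mul_zero, sub_zero] at hu
    exact hu.ne_zero rfl
  refine ⟨g.1 0 0 / g.1 1 1, fun t => ?_⟩
  rw [uu_eq, diagAut_apply, uu_eq]
  congr 1
  apply Subtype.ext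
  rw [coe_conjSL]
  have e' : g.1 * (uSL t).1 = (uSL (g.1 0 0 / g.1 1 1 * t)).1 * g.1 := by
    ext i j
    fin_cases i <;> fin_cases j <;> simp [coe_uSL, Matrix.mul_apply, Fin.sum_univ_two, e10] <;>
      field_simp <;> ring
  rw [e', Matrix.mul_assoc, ← Units.val_mul, mul_inv_cancel, Units.val_one, Matrix.mul_one]

/-- The hypothesis: the automorphisms in `A` are transitive on the four-groups. -/
def FourTrans (A : Set (MulAut (Matrix.ProjectiveSpecialLinearGroup (Fin 2) F))) : Prop :=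
  ∀ a b a' b' : F, a ≠ 0 → b ≠ 0 → a ≠ b → a' ≠ 0 → b' ≠ 0 → a' ≠ b' →
    ∃ φ ∈ A, four a' b' = (four a b).map φ.toMonoidHom

/-- Every element is a Galois image of a ratio inside a fixed four-group. -/
theorem exists_ratio {A : Set (MulAut PSL)} (hT : FourTrans A) {r₀ : F} (h0 : r₀ ≠ 0) (h1 : r₀ ≠ 1) {x : F} (hx0 : x ≠ 0) (hx1 : x ≠ 1) :
    ∃ (σ : F ≃+* F) (u v : F), (u = 1 ∨ u = r₀ ∨ u = 1 + r₀) ∧ (v = 1 ∨ v = r₀ ∨ v = 1 + r₀) ∧ u ≠ v ∧
      x = σ (v / u) ∧ ∃ φ ∈ A, ∃ g : GL (Fin 2) F, φ = diagAut g * fieldAut σ := by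
  haveI : Fact (Nat.Prime 2) := ⟨Nat.prime_two⟩
  obtain ⟨φ, hφA, hφ⟩ := hT 1 r₀ 1 x one_ne_zero h0 h1.symm one_ne_zero hx0 hx1.symm
  obtain ⟨g, σ, hg⟩ := exists_diag_field 2 φ
  have key : ∀ w : F, w ≠ 0 → uu w ∈ four (1 : F) x →
      ∃ u : F, (u = 1 ∨ u = r₀ ∨ u = 1 + r₀) ∧ φ (uu u) = uu w := by
    intro w hw hwm
    rw [hφ] at hwm
    obtain ⟨_, ⟨u, hu, rfl⟩, huw⟩ := hwm
    simp only [Set.mem_insert_iff, Set.mem_singleton_iff] at hu
    rcases hu with rfl | hu
    · exfalso
      refine hw (uu_injective (huw.symm.trans ?_))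
      show φ (uu (0 : F)) = uu 0
      rw [show (uu (0 : F) : PSL) = 1 from map_one _, map_one]
    · exact ⟨u, hu, huw⟩
  obtain ⟨u, hu, hu1⟩ := key 1 one_ne_zero (mem_four.mpr ⟨1, by simp, rfl⟩)
  obtain ⟨v, hv, hv1⟩ := key x hx0 (mem_four.mpr ⟨x, by simp, rfl⟩)
  have hu0 : u ≠ 0 := by
    rintro rfl
    rw [show (uu (0 : F) : PSL) = 1 from map_one _, map_one, ← (map_one _ : (uu (0 : F) : PSL) = 1)] at hu1
    exact zero_ne_one (uu_injective hu1)
  rw [hg, MulAut.mul_apply, fieldAut_uu] at hu1 hv1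
  clear key
  obtain ⟨c, hc⟩ := scale_of_moves g (s := σ u) (r := 1) (by simp [hu0]) hu1
  rw [hc] at hu1 hv1
  have ha := uu_injective hu1
  have hb := uu_injective hv1
  refine ⟨σ, u, v, hu, hv, ?_, ?_, φ, hφA, g, hg⟩
  · rintro rfl
    exact hx1 (hb.symm.trans ha)
  · rw [map_div₀, eq_div_iff (by simp [hu0]), ← hb]
    linear_combination (σ v) * ha

/-- At most `n` field automorphisms. -/
theorem card_ringAut_le {n : ℕ} (hq : Fintype.card F = 2 ^ n) : Nat.card (F ≃+* F) ≤ n := by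
  haveI : Fact (Nat.Prime 2) := ⟨Nat.prime_two⟩
  letI : Algebra (ZMod 2) F := ZMod.algebra F 2
  haveI : Module.Finite (ZMod 2) F := Module.Finite.of_finite
  haveI : Finite (F ≃ₐ[ZMod 2] F) := Finite.of_injective _ DFunLike.coe_injective
  have h : Function.Injective fun σ : F ≃+* F => (AlgEquiv.ofRingEquiv (f := σ) (fun x => by
      show (σ : F →+* F).comp (algebraMap (ZMod 2) F) x = algebraMap (ZMod 2) F x
      rw [Subsingleton.elim ((σ : F →+* F).comp (algebraMap (ZMod 2) F)) (algebraMap (ZMod 2) F)]) :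
      F ≃ₐ[ZMod 2] F) := fun a b e => RingEquiv.ext fun x => DFunLike.congr_fun e x
  refine (Nat.card_le_card_of_injective _ h).trans ?_
  rw [IsGalois.card_aut_eq_finrank]
  have hc := Module.card_eq_pow_finrank (K := ZMod 2) (V := F)
  rw [hq, ZMod.card] at hc
  exact (Nat.pow_right_injective le_rfl hc).ge

/-- The only fields are those of order 4, 8, 32. -/
theorem cases_of_trans {A : Set (MulAut PSL)} (hT : FourTrans A) {n : ℕ} (hn : 2 ≤ n) (hq : Fintype.card F = 2 ^ n) :
    n = 2 ∨ n = 3 ∨ n = 5 := by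
  classical
  have hq4 : 4 ≤ Fintype.card F := by
    rw [hq]
    calc 4 = 2 ^ 2 := rfl
      _ ≤ _ := Nat.pow_le_pow_right (by norm_num) hn
  by_cases h3 : 3 ∣ Fintype.card F - 1
  · haveI : Fact (Nat.Prime 3) := ⟨Nat.prime_three⟩
    obtain ⟨ω, hω⟩ := exists_prime_orderOf_dvd_card' (G := Fˣ) 3
      (by rwa [Nat.card_eq_fintype_card, Fintype.card_units])
    have hω3 : ((ω : Fˣ) : F) ^ 3 = 1 := by
      rw [← Units.val_pow_eq_pow_val, ← hω, pow_orderOf_eq_one, Units.val_one]
    have hω1 : ((ω : Fˣ) : F) ≠ 1 := fun e => by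
      rw [Units.val_eq_one.mp e, orderOf_one] at hω; omega
    have hω2 : (1 + (ω : F)) ^ 3 = 1 := by
      have e : ((ω : F) - 1) * ((ω : F) * ω + ω + 1) = 0 := by linear_combination hω3
      rcases mul_eq_zero.mp e with e' | e'
      · exact absurd (sub_eq_zero.mp e') hω1
      · have h2 : (1 : F) + 1 = 0 := CharTwo.add_self_eq_zero 1
        linear_combination ((ω : F) + 2) * e' - h2
    have hall : ∀ x : Fˣ, x ^ 3 = 1 := by
      intro x
      apply Units.ext
      rw [Units.val_pow_eq_pow_val, Units.val_one]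
      by_cases hx1 : (x : F) = 1
      · rw [hx1, one_pow]
      obtain ⟨σ, u, v, hu, hv, -, hx, -⟩ := exists_ratio hT ω.ne_zero hω1 x.ne_zero hx1
      have hc : ∀ w : F, (w = 1 ∨ w = (ω : F) ∨ w = 1 + (ω : F)) → w ^ 3 = 1 := by
        rintro w (rfl | rfl | rfl)
        exacts [one_pow 3, hω3, hω2]
      rw [hx, ← map_pow, div_pow, hc v hv, hc u hu, div_one, map_one]
    obtain ⟨y, hy⟩ := IsCyclic.exists_ofOrder_eq_natCard (α := Fˣ)
    have hd := orderOf_dvd_of_pow_eq_one (hall y)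
    rw [hy, Nat.card_eq_fintype_card, Fintype.card_units] at hd
    have h5 := Nat.le_of_dvd (by norm_num) hd
    left
    have h6 : 2 ^ n ≤ 2 ^ 2 := by omega
    have := (Nat.pow_le_pow_iff_right (by norm_num : 1 < 2)).mp h6
    omega
  · obtain ⟨r₀, hr⟩ : ∃ r₀ : F, r₀ ∉ ({0, 1} : Finset F) := by
      by_contra h
      push Not at h
      have : Fintype.card F ≤ ({0, 1} : Finset F).card := Finset.card_le_card fun x _ => h x
      have : ({0, 1} : Finset F).card ≤ 2 := Finset.card_le_two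
      omega
    simp only [Finset.mem_insert, Finset.mem_singleton, not_or] at hr
    haveI : Finite (F ≃+* F) := Finite.of_injective _ DFunLike.coe_injective
    haveI : Fintype (F ≃+* F) := Fintype.ofFinite _
    set S : Finset F := {1, r₀, 1 + r₀} with hS
    have hsub : Finset.univ \ ({0, 1} : Finset F) ⊆
        ((Finset.univ : Finset (F ≃+* F)) ×ˢ S.offDiag).image fun p => p.1 (p.2.2 / p.2.1) := by
      intro x hx
      simp only [Finset.mem_sdiff, Finset.mem_univ, true_and, Finset.mem_insert, Finset.mem_singleton, not_or] at hx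
      obtain ⟨σ, u, v, hu, hv, huv, he, -⟩ := exists_ratio hT hr.1 hr.2 hx.1 hx.2
      refine Finset.mem_image.mpr ⟨(σ, (u, v)), ?_, he.symm⟩
      simp [hS, Finset.mem_offDiag, hu, hv, huv]
    have h := (Finset.card_le_card hsub).trans Finset.card_image_le
    rw [Finset.card_sdiff_of_subset (Finset.subset_univ _), Finset.card_univ, Finset.card_product, Finset.card_univ,
      Finset.card_pair (zero_ne_one (α := F))] at h
    have hG : Fintype.card (F ≃+* F) ≤ n := by rw [← Nat.card_eq_fintype_card]; exact card_ringAut_le hq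
    have hS6 : S.offDiag.card ≤ 6 := by
      rw [Finset.offDiag_card]
      have h3 : S.card ≤ 3 := Finset.card_le_three
      interval_cases S.card <;> norm_num
    have hb : 2 ^ n ≤ 6 * n + 2 := by
      have := h.trans (Nat.mul_le_mul hG hS6)
      omega
    have hn5 : n ≤ 5 := by
      by_contra hlt
      obtain ⟨k, rfl⟩ : ∃ k, n = 6 + k := ⟨n - 6, by omega⟩
      have hk : k + 1 ≤ 2 ^ k := Nat.lt_two_pow_self
      rw [pow_add] at hb
      omega
    have h4 : n ≠ 4 := fun e => h3 (by rw [hq, e]; norm_num)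
    omega

end CfsgLib.AbConj
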