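import Cfsg.Agent.Lib.Walter.Three.Borel
import Cfsg.Agent.Lib.WalterUse.ReeNonabelian
import Cfsg.Agent.Lib.DicksonFull.Subgroups
import Cfsg.Agent.Lib.Basic
import Cfsg.Agent.S0343

/-!
In a simple group with centralisers of involutions `2 × PSL₂(3^odd)` some element of order three commutes with no
involution.
-/

set_option autoImplicit false
set_option linter.unusedSectionVars false
set_option linter.style.haveILetI false

namespace CfsgLib.AbConj

open Subgroup

universe u

local notation "PSL₂[" F "]" => Matrix.ProjectiveSpecialLinearGroup (Fin 2) F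

/-- The centraliser of `r` is `2 × PSL₂(3^(2m+1))`. -/
def RShape {K : Type u} [Group K] (r : K) : Prop :=
  ∃ (F : Type) (_ : Field F) (_ : Fintype F) (m : ℕ), 1 ≤ m ∧ Fintype.card F = 3 ^ (2 * m + 1) ∧
    Nonempty (centralizer ({r} : Set K) ≃* Multiplicative (ZMod 2) × PSL₂[F])

variable {K : Type u} [Group K] [Finite K]

theorem charP_three {F : Type} [Field F] [Fintype F] {n : ℕ} (h : Fintype.card F = 3 ^ n) : CharP F 3 := by
  obtain ⟨p, hp⟩ := CharP.exists F
  haveI := hp
  obtain ⟨k, hpp, hk⟩ := FiniteField.card F p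
  have hd : p ∣ 3 ^ n := h ▸ hk ▸ dvd_pow_self p k.ne_zero
  rwa [← (Nat.prime_dvd_prime_iff_eq hpp Nat.prime_three).mp (hpp.dvd_of_dvd_pow hd)]

theorem mod_four {F : Type} [Fintype F] {m : ℕ} (h : Fintype.card F = 3 ^ (2 * m + 1)) : Fintype.card F % 4 = 3 := by
  rw [h, pow_succ, pow_mul, Nat.mul_mod, Nat.pow_mod]
  norm_num

/-- An element of order three has trivial component in the group of order two. -/
theorem fst_eq_one {L : Type*} [Group L] {z : Multiplicative (ZMod 2) × L} (h : z ^ 3 = 1) : z.1 = 1 := by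
  have h3 : z.1 ^ 3 = 1 := by rw [← Prod.pow_fst, h]; rfl
  revert h3
  generalize z.1 = y
  revert y
  decide

/-- The component in `PSL₂` of an element of order three commuting with `r`. -/
theorem snd_orderOf {r x : K} {L : Type*} [Group L]
    (e : centralizer ({r} : Set K) ≃* Multiplicative (ZMod 2) × L) (hx : orderOf x = 3)
    (hxr : x ∈ centralizer ({r} : Set K)) : orderOf (e ⟨x, hxr⟩).2 = 3 := by
  haveI : Fact (Nat.Prime 3) := ⟨Nat.prime_three⟩
  have hb : (⟨x, hxr⟩ : centralizer ({r} : Set K)) ^ 3 = 1 :=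
    Subtype.ext (show x ^ 3 = 1 by rw [← hx]; exact pow_orderOf_eq_one x)
  refine orderOf_eq_prime (by rw [← Prod.pow_snd, ← map_pow, hb, map_one]; rfl) fun h => ?_
  have he : e ⟨x, hxr⟩ = e 1 := by
    rw [map_one]; exact Prod.ext (fst_eq_one (by rw [← map_pow, hb, map_one])) h
  rw [show x = 1 from congrArg Subtype.val (e.injective he), orderOf_one] at hx
  omega

/-- An involution does not invert an element of order three whose centraliser contains an involution commuting
with it. -/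
theorem no_inverted_pair {r s x : K} (hr : RShape r) (hs : s * s = 1) (hx : orderOf x = 3)
    (hsr : Commute s r) (hxr : Commute x r) (hinv : s * x * s⁻¹ = x⁻¹) : False := by
  obtain ⟨F, _, _, m, hm, hF, ⟨e⟩⟩ := hr
  haveI := charP_three hF
  have hxm := mem_centralizer_singleton_iff.mpr hxr.eq
  have hB := snd_orderOf e hx hxm
  set a : centralizer ({r} : Set K) := ⟨s, mem_centralizer_singleton_iff.mpr hsr.eq⟩
  set b : centralizer ({r} : Set K) := ⟨x, hxm⟩
  have hab : a * b * a⁻¹ = b⁻¹ := Subtype.ext hinv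
  have ha : a * a = 1 := Subtype.ext hs
  have hi : (e a).2 * (e b).2 * ((e a).2)⁻¹ = ((e b).2)⁻¹ := congrArg Prod.snd
    (show e a * e b * (e a)⁻¹ = (e b)⁻¹ by rw [← map_inv, ← map_mul, ← map_mul, hab, map_inv])
  have hB1 : (e b).2 ≠ 1 := fun h => by rw [h, orderOf_one] at hB; omega
  by_cases ha2 : (e a).2 = 1
  · rw [ha2, inv_one, one_mul, mul_one] at hi
    have h2 : (e b).2 ^ 2 = 1 := by rw [pow_two]; exact eq_inv_iff_mul_eq_one.mp hi
    have h3 := orderOf_dvd_of_pow_eq_one h2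
    rw [hB] at h3
    norm_num at h3
  · refine Walter.Three.no_inverted (mod_four hF) ?_ ha2 (k := 1) ?_ hB1 hi
    · exact congrArg Prod.snd (show e a * e a = 1 by rw [← map_mul, ha, map_one])
    · rw [pow_one, ← hB]; exact pow_orderOf_eq_one _

theorem zmod_two_cases : ∀ y : Multiplicative (ZMod 2), y = 1 ∨ y = Multiplicative.ofAdd 1 := by decide

/-- A 2-subgroup containing `r` that centralises an element of order three commuting with `r` is `⟨r⟩`. -/
theorem two_subgroup_eq (hab : ∀ P : Sylow 2 K, ∀ a b : P, a * b = b * a) {r z : K} (hr : RShape r)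
    (hr2 : orderOf r = 2) (hz : orderOf z = 3) (hzr : Commute z r) {T : Subgroup K} (hT : IsPGroup 2 T) (hrT : r ∈ T)
    (hTz : ∀ w ∈ T, Commute w z) : ∀ w ∈ T, w = 1 ∨ w = r := by
  haveI : Fact (Nat.Prime 2) := ⟨Nat.prime_two⟩
  obtain ⟨F, _, _, m, hm, hF, ⟨e⟩⟩ := hr
  have hu := WalterUse.uFacts_psl (F := F) ⟨m, rfl⟩ hF
  have hzm := mem_centralizer_singleton_iff.mpr hzr.eq
  have hB := snd_orderOf e hz hzm
  obtain ⟨P, hP⟩ := hT.exists_le_sylow
  have hwm : ∀ w ∈ T, w ∈ centralizer ({r} : Set K) := fun w hw => mem_centralizer_singleton_iff.mpr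
    (congrArg Subtype.val (hab P ⟨w, hP hw⟩ ⟨r, hP hrT⟩))
  have key : ∀ w (hw : w ∈ T), (e ⟨w, hwm w hw⟩).2 = 1 := by
    intro w hw
    obtain ⟨k, hk⟩ := hT ⟨w, hw⟩
    have hk' : (e ⟨w, hwm w hw⟩).2 ^ 2 ^ k = 1 := by
      have ha : (⟨w, hwm w hw⟩ : centralizer ({r} : Set K)) ^ 2 ^ k = 1 := Subtype.ext (congrArg Subtype.val hk :)
      rw [← Prod.pow_snd, ← map_pow, ha, map_one]
      rfl
    have hc : Commute (e ⟨w, hwm w hw⟩).2 (e ⟨z, hzm⟩).2 := congrArg Prod.snd
      (show e ⟨w, hwm w hw⟩ * e ⟨z, hzm⟩ = e ⟨z, hzm⟩ * e ⟨w, hwm w hw⟩ by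
        rw [← map_mul, ← map_mul]; exact congrArg e (Subtype.ext (hTz w hw).eq))
    obtain ⟨j, -, hj⟩ := (Nat.dvd_prime_pow Nat.prime_two).mp (orderOf_dvd_of_pow_eq_one hk')
    rcases j with _ | i
    · exact orderOf_eq_one_iff.mp (by simpa using hj)
    exfalso
    refine hu.odd3 ((e ⟨w, hwm w hw⟩).2 ^ 2 ^ i) _ ?_ hB (hc.pow_left _)
    rw [orderOf_pow' _ (by positivity), hj, Nat.gcd_eq_right (pow_dvd_pow 2 (Nat.le_succ i)),
      Nat.pow_div (Nat.le_succ i) (by norm_num), show i.succ - i = 1 by omega, pow_one]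
  intro w hw
  have h2 := zmod_two_cases
  rcases h2 (e ⟨w, hwm w hw⟩).1 with h | h
  · left
    exact congrArg Subtype.val (e.injective
      (show e ⟨w, hwm w hw⟩ = e 1 by rw [map_one]; exact Prod.ext h (key w hw)))
  · right
    have hr1 : r ≠ 1 := fun h' => by rw [h', orderOf_one] at hr2; omega
    have hc : (e ⟨r, hwm r hrT⟩).1 = Multiplicative.ofAdd 1 := (h2 _).resolve_left fun h' => hr1
      (congrArg Subtype.val (e.injective
        (show e ⟨r, hwm r hrT⟩ = e 1 by rw [map_one]; exact Prod.ext h' (key r hrT))))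
    exact congrArg Subtype.val (e.injective
      (show e ⟨w, hwm w hw⟩ = e ⟨r, hwm r hrT⟩ from Prod.ext (h.trans hc.symm) ((key w hw).trans (key r hrT).symm)))

/-- `q³` divides the order of the group and does not divide the order of an involution centraliser. -/
theorem three_part [IsSimpleGroup K] (hab : ∀ P : Sylow 2 K, ∀ a b : P, a * b = b * a) {r : K}
    (hr : RShape r) (hr2 : orderOf r = 2) (Q : Sylow 3 K) : ¬ (Q : Subgroup K) ≤ centralizer ({r} : Set K) := by
  obtain ⟨F, _, _, m, hm, hF, ⟨e⟩⟩ := hr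
  haveI : Fact (Nat.Prime 3) := ⟨Nat.prime_three⟩
  intro hle
  have h27 : 27 ≤ Fintype.card F := by
    rw [hF]
    calc 27 = 3 ^ 3 := rfl
      _ ≤ _ := Nat.pow_le_pow_right (by norm_num) (by omega)
  obtain ⟨m', -, hF', hK⟩ | ⟨h45, -⟩ := Cfsg.Agent.S0343.result hab (by omega) r hr2 ⟨e⟩
  · rw [← hF'] at hK
    set q := Fintype.card F with hq
    have hdQ : q ^ 3 ∣ Nat.card (Q : Subgroup K) := by
      have hd : q ^ 3 ∣ Nat.card K := hK ▸ (Dvd.intro _ rfl).mul_right _
      rw [hF, ← pow_mul] at hd ⊢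
      rw [Q.card_eq_multiplicity]
      exact pow_dvd_pow 3 ((Nat.prime_three.pow_dvd_iff_le_factorization Nat.card_pos.ne').mp hd)
    have hdC := hdQ.trans (card_dvd_of_le hle)
    rw [Nat.card_congr e.toEquiv, Nat.card_prod,
      show Nat.card (Multiplicative (ZMod 2)) = 2 from Nat.card_zmod 2] at hdC
    have h3 : q ^ 3 ∣ 2 * (q * (q ^ 2 - 1)) := by
      rw [← DicksonFull.card_psl (F := F), ← mul_assoc, mul_comm 2, mul_assoc]
      exact hdC.mul_left _
    have hcop : (q ^ 3).Coprime (2 * (q ^ 2 - 1)) := by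
      rw [hF]
      refine Nat.Coprime.pow_left _ (Nat.Coprime.pow_left _ ((Nat.prime_three.coprime_iff_not_dvd).mpr ?_))
      intro h
      have h0 : 3 ∣ (3 ^ (2 * m + 1)) ^ 2 := (dvd_pow_self 3 (by omega)).pow (by norm_num)
      have h1 : 1 ≤ (3 ^ (2 * m + 1)) ^ 2 := Nat.one_le_pow _ _ (Nat.pow_pos (by norm_num))
      rcases Nat.prime_three.dvd_mul.mp h with h' | h' <;> omega
    rw [show 2 * (q * (q ^ 2 - 1)) = q * (2 * (q ^ 2 - 1)) by ring] at h3
    have h4 := Nat.le_of_dvd (by omega) (hcop.dvd_of_dvd_mul_right h3)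
    have h5 : q * q ≤ q ^ 3 := by rw [pow_three]; exact Nat.mul_le_mul_left _ (Nat.le_mul_of_pos_left _ (by omega))
    nlinarith
  · omega

/-- Some element of order three commutes with no involution. -/
theorem exists_three_no_commute [IsSimpleGroup K] (hab : ∀ P : Sylow 2 K, ∀ a b : P, a * b = b * a)
    (hR : ∀ r : K, orderOf r = 2 → RShape r) (t : K) (ht : orderOf t = 2) :
    ∃ x : K, orderOf x = 3 ∧ ∀ r : K, orderOf r = 2 → ¬ Commute x r := by
  classical
  by_contra hcon
  push Not at hcon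
  haveI : Fact (Nat.Prime 2) := ⟨Nat.prime_two⟩
  haveI : Fact (Nat.Prime 3) := ⟨Nat.prime_three⟩
  obtain ⟨Q⟩ : Nonempty (Sylow 3 K) := inferInstance
  haveI : Nontrivial (Q : Subgroup K) := by
    rw [Subgroup.nontrivial_iff_ne_bot]
    intro h
    exact three_part hab (hR t ht) ht Q (h ▸ bot_le)
  haveI := Q.isPGroup'.center_nontrivial
  obtain ⟨z, hz⟩ := exists_prime_orderOf_dvd_card' (G := center (Q : Subgroup K)) 3 (by
    obtain ⟨k, hk⟩ := (Q.isPGroup'.to_subgroup (center (Q : Subgroup K))).exists_card_eq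
    rcases k with _ | k
    · rw [pow_zero] at hk
      exact absurd hk (Finite.one_lt_card (α := center (Q : Subgroup K))).ne'
    · exact hk ▸ dvd_pow_self 3 (Nat.succ_ne_zero k))
  set w : K := ((z : (Q : Subgroup K)) : K) with hw
  have hw3 : orderOf w = 3 := by rw [hw, Subgroup.orderOf_coe, Subgroup.orderOf_coe, hz]
  obtain ⟨r, hr2, hwr⟩ := hcon w hw3
  -- the centraliser of `w` has a normal 2-complement
  set H : Subgroup K := centralizer ({w} : Set K) with hH
  have hQH : (Q : Subgroup K) ≤ H := fun a ha => mem_centralizer_singleton_iff.mpr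
    (congrArg Subtype.val (mem_center_iff.mp z.2 ⟨a, ha⟩))
  have hrH : r ∈ H := mem_centralizer_singleton_iff.mpr hwr.eq.symm
  obtain ⟨T, hT⟩ := (IsPGroup.of_card (n := 1) (by rw [Nat.card_zpowers, Subgroup.orderOf_mk, hr2, pow_one]) :
    IsPGroup 2 (zpowers (⟨r, hrH⟩ : H))).exists_le_sylow
  have hTK : ∀ a ∈ (T : Subgroup H), a = 1 ∨ a = ⟨r, hrH⟩ := fun a ha =>
    (two_subgroup_eq hab (hR r hr2) hr2 hw3 hwr (T := (T : Subgroup H).map H.subtype) (T.isPGroup'.map _)
      ⟨_, hT (mem_zpowers _), rfl⟩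
      (fun b hb => by
        obtain ⟨c, -, rfl⟩ := hb
        exact mem_centralizer_singleton_iff.mp c.2) a ⟨a, ha, rfl⟩).imp Subtype.ext Subtype.ext
  have hN : normalizer ((T : Subgroup H) : Set H) ≤ centralizer ((T : Subgroup H) : Set H) := by
    intro g hg b hb
    rcases hTK b hb with rfl | rfl
    · simp
    · have h := (mem_normalizer_iff.mp hg _).mp hb
      rcases hTK _ h with e | e
      · rw [conj_eq_one_iff] at e
        have e2 : r = 1 := congrArg Subtype.val e
        rw [e2, orderOf_one] at hr2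
        omega
      · exact (mul_inv_eq_iff_eq_mul.mp e).symm
  set N := (MonoidHom.transferSylow T hN).ker with hNdef
  have hcompl := MonoidHom.ker_transferSylow_isComplement' T hN
  have hN2 : ¬ 2 ∣ Nat.card N := MonoidHom.not_dvd_card_ker_transferSylow T hN
  let QH : Sylow 3 H := Q.subtype hQH
  have hQN : (QH : Subgroup H) ≤ N := by
    intro a ha
    obtain ⟨k, hk⟩ := QH.isPGroup' ⟨a, ha⟩
    have h1 : (MonoidHom.transferSylow T hN a) ^ 3 ^ k = 1 := by
      rw [← map_pow, show a ^ 3 ^ k = 1 from congrArg Subtype.val hk, map_one]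
    obtain ⟨j, hj⟩ := T.isPGroup' (MonoidHom.transferSylow T hN a)
    exact orderOf_eq_one_iff.mp (Nat.eq_one_of_dvd_coprimes
      (Nat.Coprime.pow k j (by norm_num : Nat.Coprime 3 2))
      (orderOf_dvd_of_pow_eq_one h1) (orderOf_dvd_of_pow_eq_one hj))
  have htop := Sylow.normalizer_sup_eq_top' QH hQN
  -- an involution normalises `Q`
  obtain ⟨s, hsQ, hs⟩ : ∃ s : normalizer (QH : Set H), True ∧ orderOf s = 2 := by
    obtain ⟨s, hs⟩ := exists_prime_orderOf_dvd_card' (G := normalizer (QH : Set H)) 2 (by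
      by_contra hodd
      have hd : 2 ∣ Nat.card H := by
        rw [← hr2, show orderOf r = orderOf (⟨r, hrH⟩ : H) from (Subgroup.orderOf_mk r hrH).symm]
        exact orderOf_dvd_natCard _
      have hprod := CfsgLib.card_sup_dvd_mul (normalizer (QH : Set H)) N
      rw [htop, Subgroup.card_top] at hprod
      rcases Nat.prime_two.dvd_mul.mp (hd.trans hprod) with h | h
      exacts [hodd h, hN2 h])
    exact ⟨s, trivial, hs⟩
  set v : K := ((s : H) : K) with hv
  have hv2 : orderOf v = 2 := by rw [hv, Subgroup.orderOf_coe, Subgroup.orderOf_coe, hs]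
  have hvv : v * v = 1 := by rw [← pow_two, ← hv2]; exact pow_orderOf_eq_one v
  have hvi : v⁻¹ = v := inv_eq_of_mul_eq_one_right hvv
  have hvQ : ∀ a ∈ (Q : Subgroup K), v * a * v⁻¹ ∈ (Q : Subgroup K) := fun a ha =>
    (mem_normalizer_iff.mp s.2 ⟨a, hQH ha⟩).mp ha
  -- an inverted element of order three
  obtain ⟨a, haQ, hav⟩ : ∃ a ∈ (Q : Subgroup K), ¬ Commute a v := by
    by_contra h
    push Not at h
    exact three_part hab (hR v hv2) hv2 Q fun a ha => mem_centralizer_singleton_iff.mpr (h a ha).eq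
  set c : K := a⁻¹ * (v * a * v⁻¹) with hc
  have hcQ : c ∈ (Q : Subgroup K) := mul_mem (inv_mem haQ) (hvQ a haQ)
  have hc1 : c ≠ 1 := fun h => hav (by
    rw [hc, inv_mul_eq_one] at h
    exact (eq_mul_inv_iff_mul_eq.mp h))
  have hci : v * c * v⁻¹ = c⁻¹ := by
    rw [hc, hvi]
    simp only [mul_inv_rev, inv_inv, hvi]
    calc v * (a⁻¹ * (v * a * v)) * v = v * a⁻¹ * v * a * (v * v) := by group
      _ = v * (a⁻¹ * v) * a := by rw [hvv]; group
      _ = _ := by group
  obtain ⟨k, hk⟩ := Q.isPGroup' ⟨c, hcQ⟩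
  obtain ⟨j, -, hj⟩ := (Nat.dvd_prime_pow Nat.prime_three).mp
    (orderOf_dvd_of_pow_eq_one (congrArg Subtype.val hk : c ^ 3 ^ k = 1))
  rcases j with _ | i
  · exact hc1 (orderOf_eq_one_iff.mp (by simpa using hj))
  set x : K := c ^ 3 ^ i with hxdef
  have hx : orderOf x = 3 := by
    rw [hxdef, orderOf_pow' _ (by positivity), hj, Nat.gcd_eq_right (pow_dvd_pow 3 (Nat.le_succ i)),
      Nat.pow_div (Nat.le_succ i) (by norm_num), show i.succ - i = 1 by omega, pow_one]
  have hxi : v * x * v⁻¹ = x⁻¹ := by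
    rw [hxdef, ← conj_pow, hci, inv_pow]
  obtain ⟨u, hu2, hxu⟩ := hcon x hx
  -- an involution centralising `x` and commuting with `v`
  set H1 : Subgroup K := normalizer ((zpowers x : Subgroup K) : Set K) with hH1
  set C1 : Subgroup H1 := (centralizer ({x} : Set K)).subgroupOf H1 with hC1
  haveI : C1.Normal := by
    refine ⟨fun b hb g => ?_⟩
    rw [hC1, mem_subgroupOf, mem_centralizer_singleton_iff] at hb ⊢
    have hg : (g : K)⁻¹ * x * g ∈ zpowers x := by
      have := (mem_normalizer_iff.mp (inv_mem g.2) x).mp (mem_zpowers x)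
      simpa using this
    obtain ⟨l, hl⟩ := hg
    have h' : Commute (b : K) ((g : K)⁻¹ * x * g) := hl ▸ (show Commute (b : K) x from hb).zpow_right l
    simp only [coe_mul, coe_inv]
    have := congrArg (fun y => (g : K) * y * (g : K)⁻¹) h'.eq
    simp only [mul_assoc, mul_inv_cancel_left, mul_inv_cancel, mul_one] at this ⊢
    exact this
  have hvH : v ∈ H1 := mem_normalizer_fintype fun y hy => by
    obtain ⟨l, rfl⟩ := hy
    rw [← conj_zpow, hxi]
    exact zpow_mem (inv_mem (mem_zpowers x)) l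
  have huH : u ∈ H1 := mem_normalizer_fintype fun y hy => by
    obtain ⟨l, rfl⟩ := hy
    rw [← (hxu.zpow_left l).eq, mul_inv_cancel_right]
    exact zpow_mem (mem_zpowers x) l
  obtain ⟨S, hS⟩ := (IsPGroup.of_card (n := 1) (by rw [Nat.card_zpowers, Subgroup.orderOf_mk, hv2, pow_one]) :
    IsPGroup 2 (zpowers (⟨v, hvH⟩ : H1))).exists_le_sylow
  obtain ⟨g, hg⟩ := (IsPGroup.of_card (n := 1) (by rw [Nat.card_zpowers, Subgroup.orderOf_mk, hu2, pow_one]) :
    IsPGroup 2 (zpowers (⟨u, huH⟩ : H1))).exists_le_sylow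
  obtain ⟨h, rfl⟩ := MulAction.exists_smul_eq H1 S g
  have hu' := hg (mem_zpowers _)
  rw [Sylow.coe_subgroup_smul] at hu'
  obtain ⟨u', hu'S, hu'e⟩ := hu'
  change h * u' * h⁻¹ = ⟨u, huH⟩ at hu'e
  have hu'C : u' ∈ C1 := by
    have hm : (⟨u, huH⟩ : H1) ∈ C1 := mem_centralizer_singleton_iff.mpr hxu.eq.symm
    rw [← hu'e] at hm
    have := (inferInstance : C1.Normal).conj_mem _ hm h⁻¹
    simpa [mul_assoc] using this
  have hu'2 : orderOf (u' : K) = 2 := by
    rw [Subgroup.orderOf_coe, ← (MulAut.conj h).orderOf_eq u', MulAut.conj_apply, hu'e, Subgroup.orderOf_mk, hu2]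
  obtain ⟨P, hP⟩ := (S.isPGroup'.map H1.subtype).exists_le_sylow
  have hcomm : Commute v (u' : K) := congrArg Subtype.val
    (hab P ⟨v, hP ⟨_, hS (mem_zpowers _), rfl⟩⟩ ⟨u', hP ⟨_, hu'S, rfl⟩⟩)
  exact no_inverted_pair (hR _ hu'2) hvv hx hcomm (mem_centralizer_singleton_iff.mp hu'C).symm hxi

end CfsgLib.AbConj
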