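import Cfsg.Agent.Lib.AbConj.Basic
import Cfsg.Agent.Lib.AbConj.Ree
import Cfsg.Agent.Lib.AbConj.Even
import Cfsg.Agent.Lib.Walter.Ab.Facts
import Cfsg.Agent.Lib.SmallSylow.Apply
import Cfsg.Agent.Lib.DicksonFull.Subgroups
import Cfsg.Agent.S1644
import Cfsg.Agent.S0253
import Cfsg.Prelude.Def_Spor_J1

/-!
S3914 from Walter's list: the simple normal subgroups of a group whose abelian subgroups of equal order are
conjugate.
-/

set_option autoImplicit false
set_option linter.unusedSectionVars false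
set_option linter.style.haveILetI false

namespace CfsgLib.AbConj

open Subgroup CfsgLib.PSL2

universe u

variable {G : Type u} [Group G] [Finite G] {M : Subgroup G} [hMn : M.Normal]

/-- A member of Walter's list satisfies the conclusion of S3914. -/
theorem cases_of_listed (hB : Hyp G) (hs : IsSimpleGroup M) (hna : ¬ IsMulCommutative M)
    (hl : WalterAb.Listed ↥M) :
    (∃ (F : Type) (_ : Field F) (_ : Fintype F),
        (Fintype.card F = 2 ^ 2 ∨ Fintype.card F = 2 ^ 3 ∨ Fintype.card F = 2 ^ 5) ∧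
          Nonempty (↥M ≃* Matrix.SpecialLinearGroup (Fin 2) F)) ∨
      (∃ (F : Type) (_ : Field F) (_ : Fintype F), 5 ≤ Fintype.card F ∧
          (Fintype.card F % 8 = 3 ∨ Fintype.card F % 8 = 5) ∧
          Nonempty (↥M ≃* Matrix.ProjectiveSpecialLinearGroup (Fin 2) F)) ∨
      Cfsg.Spor.IsoJ1 ↥M := by
  classical
  haveI := hs
  haveI : Fact (Nat.Prime 2) := ⟨Nat.prime_two⟩
  have hab : ∀ P : Sylow 2 M, ∀ a b : P, a * b = b * a := fun P => (sylow_comm hB hs hna P).is_comm.comm
  rcases hl with ⟨F, iF, iFt, hc, ⟨e⟩⟩ | hJ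
  · rcases hc with ⟨hq, h5⟩ | ⟨n, hn, hq⟩
    · exact Or.inr (Or.inl ⟨F, iF, iFt, h5, hq, ⟨e⟩⟩)
    -- characteristic two
    left
    haveI : CharP F 2 := by
      obtain ⟨p, hp⟩ := CharP.exists F
      haveI := hp
      obtain ⟨k, hpp, hk⟩ := FiniteField.card F p
      have hd : p ∣ 2 ^ n := hq ▸ hk ▸ dvd_pow_self p k.ne_zero
      rwa [← (Nat.prime_dvd_prime_iff_eq hpp Nat.prime_two).mp (hpp.dvd_of_dvd_pow hd)]
    have hT : FourTrans (F := F) Set.univ := by
      intro a b a' b' ha hb hab hne' hb' hab'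
      have hcomm : ∀ x y : F, ∀ p ∈ (four x y).map e.symm.toMonoidHom, ∀ r ∈ (four x y).map e.symm.toMonoidHom,
          p * r = r * p := by
        rintro x y _ ⟨p, hp, rfl⟩ _ ⟨r, hr, rfl⟩
        rw [← map_mul, ← map_mul, four_comm x y p hp r hr]
      obtain ⟨g, hg⟩ := exists_act hB (hcomm a b) (hcomm a' b') (by
        rw [card_map_of_injective e.symm.injective, card_four ha hb hab]
        exact ⟨2, 2, Nat.prime_two.prime, by norm_num, by norm_num⟩) (by
        rw [card_map_of_injective e.symm.injective, card_map_of_injective e.symm.injective, card_four ha hb hab,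
          card_four hne' hb' hab'])
      refine ⟨e.symm.trans ((act g).trans e), Set.mem_univ _, map_injective (f := e.symm.toMonoidHom) e.symm.injective ?_⟩
      rw [hg, map_map, map_map]
      congr 1
      ext x
      simp
    obtain ⟨f⟩ := SmallSylow.sl_mulEquiv_psl hq
    exact ⟨F, iF, iFt, by rcases cases_of_trans hT hn hq with rfl | rfl | rfl <;> simp [hq], ⟨e.trans f.symm⟩⟩
  · obtain ⟨T⟩ : Nonempty (Sylow 2 M) := inferInstance
    obtain ⟨t, htT, ht1⟩ : ∃ t ∈ (T : Subgroup M), t ≠ 1 :=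
      (bot_or_exists_ne_one _).resolve_left fun h => by
        have := (hJ.1 T).1; rw [h, card_bot] at this; omega
    have ht : orderOf t = 2 := orderOf_eq_prime (by rw [pow_two]; exact (hJ.1 T).2 t htT) ht1
    by_cases hall : ∀ r : M, orderOf r = 2 → RShape r
    · exfalso
      obtain ⟨F, iF, iFt, m, -, hF, ⟨e⟩⟩ := hall t ht
      haveI : Fact (Nat.Prime 3) := ⟨Nat.prime_three⟩
      haveI : Finite (Matrix.ProjectiveSpecialLinearGroup (Fin 2) F) := Quotient.finite _
      obtain ⟨y, hy⟩ := exists_prime_orderOf_dvd_card' (G := Matrix.ProjectiveSpecialLinearGroup (Fin 2) F) 3 (by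
        have hc := DicksonFull.card_psl (F := F)
        have hd : 3 ∣ Nat.gcd 2 (Fintype.card F - 1) * Nat.card (Matrix.ProjectiveSpecialLinearGroup (Fin 2) F) :=
          hc ▸ (hF ▸ dvd_pow_self 3 (by omega)).mul_right _
        refine (Nat.prime_three.dvd_mul.mp hd).resolve_left fun h => ?_
        have := Nat.le_of_dvd (by positivity) (h.trans (Nat.gcd_dvd_left 2 _))
        omega)
      let v : centralizer ({t} : Set M) := e.symm (1, y)
      have hv : orderOf (v : M) = 3 := by
        rw [orderOf_coe, e.symm.orderOf_eq, Prod.orderOf, orderOf_one, hy, Nat.lcm_one_left]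
      obtain ⟨x, hx, hno⟩ := exists_three_no_commute hab hall t ht
      obtain ⟨r, hr, hxr⟩ := three_commutes hB hv ht (mem_centralizer_singleton_iff.mp v.2) hx
      exact hno r hr hxr
    · push Not at hall
      obtain ⟨r, hr, hns⟩ := hall
      obtain ⟨F, iF, iFt, hc, ⟨e⟩⟩ := hJ.2 r hr
      rcases hc with h5 | ⟨m, hm, hq⟩
      · obtain ⟨e5⟩ := Cfsg.Agent.S0253.result (F := F) h5
        exact Or.inr (Or.inr (Cfsg.Agent.S1644.result T ⟨⟨hab T⟩⟩ (hJ.1 T).1 r hr
          (e.trans (MulEquiv.prodCongr (MulEquiv.refl _) e5))))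
      · exact absurd ⟨F, iF, iFt, m, hm, hq, ⟨e⟩⟩ hns

end CfsgLib.AbConj
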